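import Cfsg.Agent.R2.T1.Five.Main
import Cfsg.Agent.R2.T1.T3.Main
import Cfsg.Agent.R2.T1.T1p.Main
import Cfsg.Agent.R2.T1.T1x.Main
import Cfsg.Agent.R2.T1.Nodd.Fin
import Cfsg.Agent.R2.T1.P3.N9F
import Cfsg.Agent.R2.T1.P3.PQ
import Cfsg.Agent.R2.T1.Odd.Out8
import Cfsg.Agent.R2.T1.Odd.Nine5
import Cfsg.Agent.R2.T1.Odd.Nine7
import Cfsg.Agent.R2.T1.Odd.NoCov
import Cfsg.Agent.R2.T1.E5.Pat
import Cfsg.Agent.R2.PX.A.Main
import Cfsg.Agent.H952.F4.MaxA
import Cfsg.Agent.S1054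

/-!
# S5771: the assembly (helper24)

`Open F` : the statements which are still to be supplied; `final_of`.
-/

set_option autoImplicit false

namespace Cfsg.Agent.R2.T1.Main

open Cfsg Cfsg.Lie Module Equiv Equiv.Perm
open Cfsg.Agent.H943.E7V.Block (D1 rho)
open Cfsg.Agent.H952.F4 (ev es MaxAlt)
open Cfsg.Agent.R2.T1 Cfsg.Agent.R2.T1.Odd Cfsg.Agent.R2.T1.Nodd

universe u

variable {F : Type u} [Field F]

/-- `n = 8`, odd characteristic different from 5 -/
theorem odd8 [Finite F] (h2 : (2 : F) ≠ 0) (h5 : (5 : F) ≠ 0) {H : Subgroup ↥(chevE7.group F)}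
    {φ : ↥(alternatingGroup (Fin 8)) →* ↥(chevE7.group F)} {ψ : ↥(alternatingGroup (Fin 8)) →* Gh F}
    (hM : MaxAlt H 8 φ) (hL : Lift φ ψ) : False := by
  have := Fintype.ofFinite F
  obtain ⟨p, hpF⟩ := CharP.exists F
  have hp : Fact p.Prime := ⟨CharP.char_is_prime F p⟩
  have hp2 : p ≠ 2 := by
    rintro rfl
    exact h2 (by exact_mod_cast CharP.cast_eq_zero F 2)
  have hp5 : p ≠ 5 := by
    rintro rfl
    exact h5 (by exact_mod_cast CharP.cast_eq_zero F 5)
  obtain ⟨a, b, c, hs, hS, -⟩ := exists_sev h2 h5 hM hL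
  have : CharP (AlgebraicClosure F) p := charP_of_injective_algebraMap (algebraMap F (AlgebraicClosure F)).injective p
  exact P3.no_eight (algebraMap F (AlgebraicClosure F)) hp2 hp5 hM hL hs hS (P3.pq (p := p) h2 (Nodd.lift_inj hM hL) hs)

/-- the missing statements -/
structure Open (F : Type u) [Field F] : Prop where
  pat8 : ∀ (H : Subgroup ↥(chevE7.group F)) (φ : ↥(alternatingGroup (Fin 8)) →* ↥(chevE7.group F))
    (ψ : ↥(alternatingGroup (Fin 8)) →* Gh F), MaxAlt H 8 φ → Lift φ ψ → (2 : F) = 0 → False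
  big2 : ∀ (n : ℕ) (H : Subgroup ↥(chevE7.group F)) (φ : ↥(alternatingGroup (Fin n)) →* ↥(chevE7.group F))
    (ψ : ↥(alternatingGroup (Fin n)) →* Gh F), 9 ≤ n → MaxAlt H n φ → Lift φ ψ → (2 : F) = 0 → False

theorem final_of [Fintype F] (hO : Open F) (H : Subgroup ↥(chevE7.group F)) (hH : IsCoatom H)
    (n : ℕ) (hn : 5 ≤ n) (hA : Nonempty (↥(generalizedFittingSubgroup ↥H) ≃* ↥(alternatingGroup (Fin n)))) :
    n = 6 ∨ n = 7 := by
  have hsimple : IsSimpleGroup ↥(chevE7.group F) := (S1054.result chevE7 (by simp)).1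
  have : Finite ↥(chevE7.group F) := inferInstance
  obtain ⟨φ, hM⟩ := Cfsg.Agent.H952.F4.MaxA.exists_maxAlt hH hn hA
  by_contra hne
  push Not at hne
  obtain ⟨hne6, hne7⟩ := hne
  have h5 : n ≠ 5 := by
    rintro rfl
    exact Five.no_five hM
  have h8 : 8 ≤ n := by omega
  have hNZ : NeZero n := ⟨by omega⟩
  have hLex : ∃ ψ : ↥(alternatingGroup (Fin n)) →* Gh F, Lift φ ψ := by
    rcases exists_lift hn hM.inj with ⟨ψ, hL⟩ | ⟨h2, hc⟩
    · exact ⟨ψ, hL⟩
    · exact (no_cover h8 h2 hM.inj hc).elim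
  obtain ⟨ψ, hL⟩ := hLex
  by_cases h2 : (2 : F) = 0
  · by_cases h9 : 9 ≤ n
    · exact hO.big2 n H φ ψ h9 hM hL h2
    · obtain rfl : n = 8 := by omega
      exact hO.pat8 H φ ψ hM hL h2
  -- odd characteristic
  have hF5 : (5 : F) = 0 → (3 : F) ≠ 0 := by
    intro h h3
    have h' : (1 : F) = 0 := by linear_combination 2 * h3 - h
    exact one_ne_zero h'
  rcases le_ten h2 hM hL with h9 | ⟨rfl, h10⟩
  swap
  · have h7 : (7 : F) ≠ 0 := by
      intro h7
      have h' : (1 : F) = 0 := by linear_combination 3 * h10 - 2 * h7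
      exact one_ne_zero h'
    exact nine5 h2 (hF5 h10) (Nodd.lift_inj hM hL) (by norm_num) h7 (d3_twenty h2 (hF5 h10) (by norm_num) le_rfl hM hL)
  rcases (show n = 9 ∨ n = 8 by omega) with rfl | rfl
  · by_cases h3 : (3 : F) = 0
    · exact P3.odd9_three h3 hM hL
    · have h20 := d3_twenty h2 h3 (by norm_num) (by norm_num) hM hL
      by_cases h7 : (7 : F) = 0
      · have h5' : (5 : F) ≠ 0 := by
          intro h5'
          have h' : (1 : F) = 0 := by linear_combination 3 * h5' - 2 * h7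
          exact one_ne_zero h'
        exact nine7 h2 h3 h5' (Nodd.lift_inj hM hL) h20
      · exact nine5 h2 h3 (Nodd.lift_inj hM hL) le_rfl h7 h20
  · by_cases h5' : (5 : F) = 0
    · exact E5.eight5 hM hL h5' (d3_twenty h2 (hF5 h5') le_rfl (by norm_num) hM hL)
    · exact odd8 h2 h5' hM hL

end Cfsg.Agent.R2.T1.Main
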