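import Cfsg.Agent.R2.T1.Main.Skel
import Cfsg.Agent.R2.T1.Pat2.Main8
import Cfsg.Agent.R2.T1.B2.B20
import Cfsg.Agent.R2.T1.B2.Emb
import Cfsg.Agent.R2.T1.B2.Le14
import Cfsg.Agent.R2.T1.B2.T29
import Cfsg.Agent.R2.T1.T2p.T3n

/-!
# S5771: characteristic 2 (helper24)

* `Open2 F` : the pattern `(20, 32, 16, 20, 4 | 12)`, `10 ≤ n ≤ 14`; `open_of : Open2 F → Open F`.
-/

set_option autoImplicit false

namespace Cfsg.Agent.R2.T1.Main

open Cfsg Cfsg.Lie Module Equiv Equiv.Perm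
open Cfsg.Agent.H943.E7V.Block (D1 rho)
open Cfsg.Agent.H952.F4 (ev es MaxAlt)
open Cfsg.Agent.R2.T1 Cfsg.Agent.R2.T1.Pat2

universe u

variable {F : Type u} [Field F]

/-- the missing statement -/
def Open2 (F : Type u) [Field F] : Prop :=
  ∀ (n : ℕ) (H : Subgroup ↥(chevE7.group F)) (φ : ↥(alternatingGroup (Fin n)) →* ↥(chevE7.group F))
    (ψ : ↥(alternatingGroup (Fin n)) →* Gh F), 10 ≤ n → n ≤ 14 → MaxAlt H n φ → Lift φ ψ → (2 : F) = 0 →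
    DV ψ {5} 16 → DL ψ {5} 33 → DV ψ {3} 20 → DL ψ {3} 49 → DV ψ {3, 3} 32 → DL ψ {3, 3} 67 → DV ψ {7} 20 →
    (DV ψ {5, 3} 4 ∨ DV ψ {5, 3} 12) → False

theorem big2 [Finite F] (hO : Open2 F) {n : ℕ} {H : Subgroup ↥(chevE7.group F)}
    {φ : ↥(alternatingGroup (Fin n)) →* ↥(chevE7.group F)} {ψ : ↥(alternatingGroup (Fin n)) →* Gh F} (hn : 9 ≤ n)
    (hM : MaxAlt H n φ) (hL : Lift φ ψ) (h2 : (2 : F) = 0) : False := by
  have hNZ : NeZero n := ⟨by omega⟩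
  have hinj : Function.Injective ψ := by
    intro a b hab
    apply hM.inj
    rw [← hL a, ← hL b, hab]
  have h5F : (5 : F) ≠ 0 := by
    intro h
    have h' : (1 : F) = 0 := by linear_combination h - 2 * h2
    exact one_ne_zero h'
  have h14 : n ≤ 14 := B2.le14 h5F hinj
  have hfix := no_fixed hM (by omega) h14 hL
  obtain ⟨⟨h5, h5'⟩, ⟨⟨h3, h3'⟩, ⟨h33, h33'⟩, h7, h53⟩ | ⟨⟨h3, h3'⟩, ⟨h33, h33'⟩, h7, h53⟩⟩ := pat2 (by omega) h2 hinj
  · rcases h53 with h53 | h53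
    · exact B2.noT1 hn h2 h3 h33 h5 h53
    · rcases h7 with h7 | h7 | h7
      · exact B2.noT1x (by omega) h2 h3 h33 h7 h53
      · exact Msk.t3_false h2 (Nodd.lift_inj hM hL) hn hfix h3 h33 h5 h7 h53
      · exact B2.no20 (by omega) h2 h3 h33 h7 hfix
  · by_cases h9 : n = 9
    · subst h9
      exact B2.noT2_9 hM hL h33 h7
    · exact hO n H φ ψ (by omega) h14 hM hL h2 h5 h5' h3 h3' h33 h33' h7 h53

theorem open_of [Finite F] (hO : Open2 F) : Open F where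
  pat8 _ _ _ hM hL h2 := Pat2.no8 h2 hM hL
  big2 _ _ _ _ hn hM hL h2 := big2 hO hn hM hL h2

end Cfsg.Agent.R2.T1.Main
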